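import Mathlib

/-!
# A central idempotent of smallest possible dimension permutes like one orbit of `P × P`

Let `k` be a field of characteristic `p`, `b` a central idempotent of `k[G]`, `P` a `p`-subgroup of
order `p ^ a`, such that every element in the support of `b` has centraliser in `P` of order at
most `p ^ d`. Then the range of `b` has dimension at least `p ^ (2a - d)`; in case of equality,
an element of `p'`-order normalising `Q ≤ P` without centralising it forces the coefficients of
`b` on the centraliser of `Q` to vanish.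
-/

namespace Cfsg.Agent.MinimalBlock

open MonoidAlgebra

variable {k : Type*} [Field k] {p : ℕ} [Fact p.Prime] [CharP k p]

/-- A nonzero invariant subspace for a finite `p`-group has a nonzero fixed vector. -/
theorem exists_fixed_vector {H V : Type*} [Group H] [Finite H] (hH : IsPGroup p H)
    [AddCommGroup V] [Module k V] (ρ : H → V →ₗ[k] V) (h1 : ∀ v, ρ 1 v = v)
    (hmul : ∀ g h v, ρ (g * h) v = ρ g (ρ h v)) (W : Submodule k V)
    (hW : ∀ h, ∀ w ∈ W, ρ h w ∈ W) {y : V} (hy : y ∈ W) (hy0 : y ≠ 0) :
    ∃ z ∈ W, z ≠ 0 ∧ ∀ h, ρ h z = z := by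
  classical
  letI : Algebra (ZMod p) k := ZMod.algebra k p
  letI : Module (ZMod p) V := Module.compHom V (algebraMap (ZMod p) k)
  set U : Submodule (ZMod p) V := Submodule.span (ZMod p) (Set.range fun h => ρ h y) with hU
  haveI hfg : Module.Finite (ZMod p) U :=
    Module.Finite.span_of_finite _ (Set.finite_range _)
  haveI : Finite U := Module.finite_of_finite (ZMod p)
  have hUW : ∀ u ∈ U, u ∈ W := fun u hu => by
    induction hu using Submodule.span_induction with
    | mem v hv => obtain ⟨h, rfl⟩ := hv; exact hW h y hy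
    | zero => exact W.zero_mem
    | add a b _ _ ha hb => exact W.add_mem ha hb
    | smul c a _ ha => exact W.smul_mem (algebraMap (ZMod p) k c) ha
  have hUinv : ∀ g, ∀ u ∈ U, ρ g u ∈ U := fun g u hu => by
    induction hu using Submodule.span_induction with
    | mem v hv => obtain ⟨h, rfl⟩ := hv; exact Submodule.subset_span ⟨g * h, hmul g h y⟩
    | zero => rw [map_zero]; exact U.zero_mem
    | add a b _ _ ha hb => rw [map_add]; exact U.add_mem ha hb
    | smul c a _ ha =>
      rw [show c • a = (algebraMap (ZMod p) k c) • a from rfl, map_smul]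
      exact U.smul_mem c ha
  letI : MulAction H U :=
    { smul := fun g u => ⟨ρ g u, hUinv g u u.2⟩
      one_smul := fun u => Subtype.ext (h1 u)
      mul_smul := fun g h u => Subtype.ext (hmul g h u) }
  have hyU : y ∈ U := Submodule.subset_span ⟨1, h1 y⟩
  haveI : Nontrivial U := ⟨⟨⟨y, hyU⟩, 0, fun e => hy0 (congrArg Subtype.val e)⟩⟩
  have hpU : p ∣ Nat.card U := by
    rw [Module.natCard_eq_pow_finrank (K := ZMod p), Nat.card_zmod]
    exact dvd_pow_self p (Module.finrank_pos (R := ZMod p)).ne'
  have h0 : (0 : U) ∈ MulAction.fixedPoints H U := fun g => Subtype.ext (map_zero (ρ g))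
  obtain ⟨z, hz, hne⟩ := hH.exists_fixed_point_of_prime_dvd_card_of_fixed_point U hpU h0
  exact ⟨z, hUW z z.2, fun e => hne (Subtype.ext e.symm),
    fun h => congrArg Subtype.val (hz h)⟩

/-- An invariant function has sum zero over a set without fixed points. -/
theorem sum_eq_zero_of_no_fixed {H α : Type*} [Group H] [Finite H] (hH : IsPGroup p H)
    [MulAction H α] [Fintype α] (f : α → k) (hf : ∀ (h : H) i, f (h • i) = f i)
    (hfix : ∀ i : α, i ∉ MulAction.fixedPoints H α) : ∑ i, f i = 0 := by
  classical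
  let π : α → Quotient (MulAction.orbitRel H α) := Quotient.mk (MulAction.orbitRel H α)
  rw [← Finset.sum_fiberwise Finset.univ π f]
  refine Finset.sum_eq_zero fun q _ => ?_
  obtain ⟨i, rfl⟩ := Quotient.exists_rep q
  have hmem : ∀ j, j ∈ Finset.univ.filter (fun j => π j = π i) ↔ j ∈ MulAction.orbit H i := by
    intro j
    rw [Finset.mem_filter, and_iff_right (Finset.mem_univ j)]
    exact Quotient.eq.trans MulAction.orbitRel_apply
  have hc : (Finset.univ.filter (fun j => π j = π i)).card = Nat.card (MulAction.orbit H i) :=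
    (Nat.card_eq_finsetCard _).symm.trans (Nat.card_congr (Equiv.subtypeEquivRight hmem))
  rw [Finset.sum_congr rfl (fun j hj => show f j = f i by
    obtain ⟨h, rfl⟩ := (hmem j).1 hj; exact hf h i), Finset.sum_const, hc, nsmul_eq_mul]
  obtain ⟨n, hn⟩ := hH.card_orbit i
  have hn0 : n ≠ 0 := by
    rintro rfl
    refine hfix i fun h => ?_
    rw [pow_zero, Nat.card_eq_one_iff_unique] at hn
    exact congrArg Subtype.val (@Subsingleton.elim _ hn.1
      (⟨h • i, MulAction.mem_orbit i h⟩ : MulAction.orbit H i) ⟨i, MulAction.mem_orbit_self i⟩)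
  rw [hn, (CharP.cast_eq_zero_iff k p (p ^ n)).2 (dvd_pow_self p hn0), zero_mul]

variable {G : Type*} [Group G]

/-- Conjugation by a subgroup. -/
@[reducible] def conjAction (P : Subgroup G) : MulAction P G where
  smul t g := (t : G) * g * (t : G)⁻¹
  one_smul g := by change ((1 : P) : G) * g * ((1 : P) : G)⁻¹ = g; simp
  mul_smul s t g := by
    change ((s * t : P) : G) * g * ((s * t : P) : G)⁻¹ = _
    change _ = (s : G) * ((t : G) * g * (t : G)⁻¹) * (s : G)⁻¹
    simp only [Subgroup.coe_mul, mul_inv_rev, mul_assoc]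

theorem csm (h g : G) (r : k) (y : MonoidAlgebra k G) :
    (single h r * y).coeff g = r * y.coeff (h⁻¹ * g) :=
  MonoidAlgebra.coeff_single_mul_eq_mul_coeff _ fun m _ => eq_inv_mul_iff_mul_eq.symm

theorem cms (h g : G) (r : k) (y : MonoidAlgebra k G) :
    (y * single h r).coeff g = y.coeff (g * h⁻¹) * r :=
  MonoidAlgebra.coeff_mul_single_eq_coeff_mul _ fun m _ => eq_mul_inv_iff_mul_eq.symm

variable [Finite G]

theorem coeff_eq_zero {b : MonoidAlgebra k G} (hidem : b * b = b)
    (hcent : ∀ g, b * single g 1 = single g 1 * b) (hb0 : b ≠ 0) {P : Subgroup G}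
    {a d : ℕ} (hP : Nat.card P = p ^ a)
    (hdef : ∀ c, b.coeff c ≠ 0 → Nat.card ↥(P ⊓ Subgroup.centralizer {c}) ≤ p ^ d)
    (hdim : Module.finrank k (LinearMap.range (LinearMap.mulLeft k b)) ≤ p ^ (2 * a - d))
    {Q : Subgroup G} (hQP : Q ≤ P) {x : G} (hxN : x ∈ Subgroup.normalizer (Q : Set G))
    (hxreg : ¬ p ∣ orderOf x) (hxC : x ∉ Subgroup.centralizer (Q : Set G))
    {c₀ : G} (hc₀ : c₀ ∈ Subgroup.centralizer (Q : Set G)) : b.coeff c₀ = 0 := by
  classical
  haveI := Fintype.ofFinite G
  letI := conjAction P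
  have hpP : IsPGroup p P := IsPGroup.of_card hP
  have hfw : ∀ g : G, ∀ s t : P, ((s • g) * (t : G)) = (s : G) * g * (s : G)⁻¹ * t :=
    fun _ _ _ => rfl
  -- a nonzero element of the range fixed by right multiplication
  obtain ⟨c, hcb, hsum⟩ : ∃ c : G, b.coeff c ≠ 0 ∧
      ∑ o : MulAction.orbit P c, ∑ t : P, b * single ((o : G) * t) (1 : k) ≠ 0 := by
    set W := LinearMap.range (LinearMap.mulLeft k b) with hW
    obtain ⟨z, ⟨w, hw⟩, hz0, hzfix⟩ := exists_fixed_vector hpP
      (fun t : P => LinearMap.mulRight k (single ((t : G)⁻¹) (1 : k)))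
      (fun v => by simp [← MonoidAlgebra.one_def])
      (fun g h v => by simp [LinearMap.mulRight_apply, mul_assoc, single_mul_single])
      W (fun t v hv => by
        obtain ⟨w, rfl⟩ := hv
        exact ⟨w * single ((t : G)⁻¹) (1 : k), by simp [mul_assoc]⟩)
      (y := b) ⟨1, by simp⟩ hb0
    -- `b * (sum of P) ≠ 0`
    have hbP : b * (∑ t : P, single (t : G) (1 : k)) ≠ 0 := by
      intro h0
      apply hz0
      -- fixed elements have coefficients constant on cosets
      have hconst : ∀ g : G, ∀ t : P, z.coeff (g * t) = z.coeff g := fun g t => by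
        have h1 := congrArg (fun v => v.coeff g) (hzfix t)
        simpa [LinearMap.mulRight_apply, cms, mul_comm] using h1
      obtain ⟨r, hr⟩ : ∃ r : G ⧸ P → G, ∀ q, (r q : G ⧸ P) = q :=
        ⟨Quotient.out, fun q => q.out_eq⟩
      let u : MonoidAlgebra k G := ∑ q : G ⧸ P, single (r q) (z.coeff (r q))
      have hz : z = u * (∑ t : P, single (t : G) (1 : k)) := by
        refine MonoidAlgebra.ext (Finsupp.ext fun g => ?_)
        simp only [u, Finset.sum_mul, Finset.mul_sum, single_mul_single, mul_one,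
          MonoidAlgebra.coeff_sum, Finsupp.finsetSum_apply, MonoidAlgebra.coeff_single,
          Finsupp.single_apply]
        have hiff : ∀ q : G ⧸ P, ∀ t : P, r q * t = g →
            q = (g : G ⧸ P) := fun q t h => by
          rw [← hr q, ← h, QuotientGroup.mk_mul_of_mem _ t.2]
        have hmem : (r g)⁻¹ * g ∈ P := QuotientGroup.eq.1 (hr g)
        rw [Finset.sum_comm, Finset.sum_eq_single (g : G ⧸ P), Finset.sum_eq_single ⟨_, hmem⟩]
        · rw [if_pos (mul_inv_cancel_left (r g) g), ← hconst (r g) ⟨_, hmem⟩]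
          simp only [mul_inv_cancel_left]
        · intro t _ ht
          rw [if_neg]
          exact fun h => ht (Subtype.ext (eq_inv_mul_iff_mul_eq.2 h))
        · simp
        · intro q _ hq
          exact Finset.sum_eq_zero fun t _ => if_neg fun h => hq (hiff q t h)
        · simp
      have hbz : b * z = z := by rw [← hw, LinearMap.mulLeft_apply, ← mul_assoc, hidem]
      have hbu : b * u = u * b := by
        simp only [u, Finset.mul_sum, Finset.sum_mul]
        refine Finset.sum_congr rfl fun q _ => ?_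
        rw [show single (r q) (z.coeff (r q)) = z.coeff (r q) • single (r q) (1 : k) by simp,
          mul_smul_comm, smul_mul_assoc, hcent]
      rw [← hbz, hz, ← mul_assoc, hbu, mul_assoc, h0, mul_zero]
    by_contra hall
    push Not at hall
    apply hbP
    -- expand one factor `b` along the `P`-orbits
    have hexp : b * (∑ t : P, single (t : G) (1 : k)) =
        ∑ g : G, b.coeff g • ∑ t : P, b * single (g * (t : G)) (1 : k) := by
      conv_lhs => rw [← hidem]
      rw [mul_assoc]
      have hb : b = ∑ g : G, b.coeff g • single g (1 : k) := by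
        refine MonoidAlgebra.ext (Finsupp.ext fun g => ?_)
        simp [MonoidAlgebra.coeff_sum, Finsupp.finsetSum_apply, Finsupp.single_apply]
      conv_lhs => arg 2; rw [hb]
      rw [Finset.sum_mul, Finset.mul_sum]
      refine Finset.sum_congr rfl fun g _ => ?_
      rw [smul_mul_assoc, mul_smul_comm, Finset.mul_sum, Finset.mul_sum]
      simp [single_mul_single]
    have hinv : ∀ (s : P) g, b.coeff (s • g) = b.coeff g := fun s g => by
      have h1 := congrArg (fun v => v.coeff ((s : G) * g)) (hcent (s : G))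
      change b.coeff ((s : G) * g * (s : G)⁻¹) = b.coeff g
      simpa [cms, csm] using h1
    rw [hexp]
    let π : G → Quotient (MulAction.orbitRel P G) := Quotient.mk (MulAction.orbitRel P G)
    rw [← Finset.sum_fiberwise Finset.univ π]
    refine Finset.sum_eq_zero fun q _ => ?_
    obtain ⟨i, rfl⟩ := Quotient.exists_rep q
    by_cases hi : b.coeff i = 0
    · refine Finset.sum_eq_zero fun j hj => ?_
      obtain ⟨s, rfl⟩ := MulAction.orbitRel_apply.1 (Quotient.eq.1 (Finset.mem_filter.1 hj).2)
      rw [hinv, hi, zero_smul]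
    · rw [Finset.sum_congr rfl (fun j hj => show
        b.coeff j • ∑ t : P, b * single (j * (t : G)) (1 : k) =
          b.coeff i • ∑ t : P, b * single (j * (t : G)) (1 : k) by
          obtain ⟨s, rfl⟩ := MulAction.orbitRel_apply.1 (Quotient.eq.1 (Finset.mem_filter.1 hj).2)
          rw [hinv]), ← Finset.smul_sum]
      refine smul_eq_zero_of_right _ ?_
      rw [← hall i hi]
      exact Finset.sum_subtype _ (fun j => by
        rw [Finset.mem_filter, and_iff_right (Finset.mem_univ j)]
        exact Quotient.eq.trans MulAction.orbitRel_apply)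
        (fun j => ∑ t : P, b * single (j * (t : G)) (1 : k))
  -- the family indexed by one orbit of `P × P`
  let ι := MulAction.orbit P c × P
  let act : P × P → ι → ι := fun uv i =>
    (uv.1 • i.1, uv.1 * i.2 * uv.2⁻¹)
  have act_one : ∀ i, act 1 i = i := fun i => by simp [act]
  have act_mul : ∀ g h i, act (g * h) i = act g (act h i) := fun g h i => by
    simp [act, mul_smul, mul_assoc]
  let e : ι → MonoidAlgebra k G := fun i => b * single ((i.1 : G) * i.2) 1
  have e_act : ∀ uv i, e (act uv i) =
      single (uv.1 : G) (1 : k) * e i * single ((uv.2 : G)⁻¹) 1 := fun uv i => by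
    simp only [e, act]
    rw [← mul_assoc, ← hcent]
    simp only [mul_assoc (G := MonoidAlgebra k G)]
    rw [single_mul_single, single_mul_single]
    simp only [MulAction.orbit.coe_smul, Subgroup.coe_mul, Subgroup.coe_inv, mul_one]
    congr 2
    change (uv.1 : G) * (i.1 : G) * (uv.1 : G)⁻¹ * _ = _
    group
  have hLI : LinearIndependent k e := by
    rw [Fintype.linearIndependent_iff]
    intro f hf i
    by_contra hfi
    let Φ : (ι → k) →ₗ[k] MonoidAlgebra k G := Fintype.linearCombination k e
    have hΦ : ∀ f : ι → k, Φ f = ∑ i, f i • e i := fun f => rfl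
    obtain ⟨z, hz, hz0, hzfix⟩ := exists_fixed_vector (H := P × P)
      (IsPGroup.of_card (n := a + a) (by rw [Nat.card_prod, hP, pow_add]))
      (fun uv => LinearMap.funLeft k k (act uv⁻¹))
      (fun v => by ext j; change v (act (1 : P × P)⁻¹ j) = v j; rw [inv_one, act_one])
      (fun g h v => by ext j; change v (act (g * h)⁻¹ j) = v (act h⁻¹ (act g⁻¹ j)); rw [← act_mul, mul_inv_rev])
      (LinearMap.ker Φ) (fun uv v hv => by
        rw [LinearMap.mem_ker, hΦ] at hv ⊢
        have he : ∑ j, LinearMap.funLeft k k (act uv⁻¹) v j • e j = ∑ j, v j • e (act uv j) := by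
          refine Fintype.sum_equiv ⟨act uv⁻¹, act uv, fun j => ?_, fun j => ?_⟩ _ _ fun j => ?_
          · rw [← act_mul, mul_inv_cancel, act_one]
          · rw [← act_mul, inv_mul_cancel, act_one]
          · change v (act uv⁻¹ j) • e j = v (act uv⁻¹ j) • e (act uv (act uv⁻¹ j))
            rw [← act_mul, mul_inv_cancel, act_one]
        rw [he]
        rw [Finset.sum_congr rfl (fun j _ => show v j • e (act uv j) =
          single (uv.1 : G) (1 : k) * (v j • e j) * single ((uv.2 : G)⁻¹) 1 by
            rw [e_act, mul_smul_comm, smul_mul_assoc]),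
          ← Finset.sum_mul, ← Finset.mul_sum, hv, mul_zero, zero_mul])
      (y := f) (by rw [LinearMap.mem_ker, hΦ]; exact hf) (fun h => hfi (congrFun h i))
    obtain ⟨i₀, hi₀⟩ : ∃ i₀, z i₀ ≠ 0 := Function.ne_iff.1 hz0
    have hzc : ∀ j, z j = z i₀ := by
      intro j
      obtain ⟨o, t⟩ := i₀
      obtain ⟨o', t'⟩ := j
      obtain ⟨s, hs⟩ : (o : G) ∈ MulAction.orbit P (o' : G) := by
        rw [MulAction.orbit_eq_iff.2 o'.2]; exact o.2
      have hso : s • o' = o := Subtype.ext hs
      have := congrFun (hzfix (s, t⁻¹ * s * t')⁻¹) (o', t')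
      rw [LinearMap.funLeft_apply, inv_inv] at this
      rw [← this]
      simp [act, hso, mul_assoc]
    rw [LinearMap.mem_ker, hΦ] at hz
    refine hsum ?_
    rw [Finset.sum_congr rfl (fun j _ => show z j • e j = z i₀ • e j by rw [hzc]),
      ← Finset.smul_sum, smul_eq_zero, or_iff_right hi₀] at hz
    rw [← hz, Fintype.sum_prod_type]
  -- the family spans the range
  have hmem : ∀ i, e i ∈ LinearMap.range (LinearMap.mulLeft k b) := fun i => ⟨_, rfl⟩
  have hcard : p ^ (2 * a - d) ≤ Fintype.card ι := by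
    have hst : MulAction.stabilizer P c ≃ ↥(P ⊓ Subgroup.centralizer {c}) :=
      { toFun := fun s => ⟨(s.1 : G), s.1.2, Subgroup.mem_centralizer_singleton_iff.2 (by
          have h : ((s.1 : G) * c * (s.1 : G)⁻¹) = c := s.2
          exact mul_inv_eq_iff_eq_mul.1 h)⟩
        invFun := fun s => ⟨⟨(s : G), s.2.1⟩, by
          change (s : G) * c * (s : G)⁻¹ = c
          exact mul_inv_eq_iff_eq_mul.2 (Subgroup.mem_centralizer_singleton_iff.1 s.2.2)⟩
        left_inv := fun s => rfl
        right_inv := fun s => rfl }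
    have hle : Nat.card (MulAction.stabilizer P c) ≤ p ^ d := (Nat.card_congr hst).le.trans (hdef c hcb)
    obtain ⟨r, hr⟩ := (hpP.to_subgroup (MulAction.stabilizer P c)).exists_card_eq
    have horb : Nat.card (MulAction.orbit P c) * p ^ r = p ^ a := by
      rw [← hr, ← hP, Nat.card_congr (MulAction.orbitEquivQuotientStabilizer P c)]
      exact (Subgroup.card_eq_card_quotient_mul_card_subgroup _).symm
    have hrd : r ≤ d := (Nat.pow_le_pow_iff_right (Fact.out : p.Prime).one_lt).1 (hr ▸ hle)
    obtain ⟨m, hm, hom⟩ := (Nat.dvd_prime_pow (Fact.out : p.Prime)).1 (Dvd.intro _ horb)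
    have hma : m + r = a := Nat.pow_right_injective (Fact.out : p.Prime).two_le
      (show p ^ (m + r) = p ^ a by rw [pow_add, ← hom, horb])
    rw [← Nat.card_eq_fintype_card, Nat.card_prod, hom, hP, ← pow_add]
    exact Nat.pow_le_pow_right (Fact.out : p.Prime).pos (by omega)
  have hspan : Submodule.span k (Set.range e) = LinearMap.range (LinearMap.mulLeft k b) := by
    refine Submodule.eq_of_le_of_finrank_le (Submodule.span_le.2 ?_) ?_
    · rintro _ ⟨i, rfl⟩; exact hmem i
    · rw [finrank_span_eq_card hLI]; exact hdim.trans hcard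
  obtain ⟨f, hf⟩ : ∃ f : ι → k, ∑ i, f i • e i = b * single x 1 := by
    rw [← Submodule.mem_span_range_iff_exists_fun, hspan]
    exact ⟨_, rfl⟩
  -- the twisted diagonal of `Q`
  have hQx : ∀ u ∈ Q, x⁻¹ * u * x ∈ Q := fun u hu => by
    have := (Subgroup.mem_normalizer_iff.1 (inv_mem hxN) u).1 hu
    simpa using this
  let τ : Q →* P × P :=
    { toFun := fun u => (⟨u, hQP u.2⟩, ⟨x⁻¹ * u * x, hQP (hQx u u.2)⟩)
      map_one' := by ext <;> simp
      map_mul' := fun u v => by ext <;> simp [mul_assoc] }
  letI : MulAction Q ι :=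
    { smul := fun u i => act (τ u) i
      one_smul := fun i => by change act (τ 1) i = i; rw [map_one, act_one]
      mul_smul := fun u v i => by change act (τ (u * v)) i = _; rw [map_mul, act_mul]; rfl }
  have hsmul : ∀ (u : Q) (i : ι), u • i = act (τ u) i := fun _ _ => rfl
  -- no fixed point
  have hfix : ∀ i : ι, i ∉ MulAction.fixedPoints Q ι := by
    intro i hi
    refine hxC ?_
    have ht : ∀ u ∈ Q, ((i.2 : G))⁻¹ * u * (i.2 : G) = x⁻¹ * u * x := fun u hu => by
      have h1 : u * (i.2 : G) * (x⁻¹ * u * x)⁻¹ = i.2 := by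
        simpa [hsmul, act, τ] using congrArg (fun j : ι => (j.2 : G)) (hi ⟨u, hu⟩)
      calc ((i.2 : G))⁻¹ * u * (i.2 : G)
          = ((i.2 : G))⁻¹ * (u * (i.2 : G) * (x⁻¹ * u * x)⁻¹) * (x⁻¹ * u * x) := by group
        _ = x⁻¹ * u * x := by rw [h1]; group
    have hzC : x * ((i.2 : G))⁻¹ ∈ Subgroup.centralizer (Q : Set G) := by
      rw [Subgroup.mem_centralizer_iff]
      intro u hu
      calc u * (x * ((i.2 : G))⁻¹) = x * (x⁻¹ * u * x) * ((i.2 : G))⁻¹ := by group
        _ = x * ((i.2 : G))⁻¹ * u := by rw [← ht u hu]; group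
    let N := Subgroup.normalizer (Q : Set G)
    have hzN : x * ((i.2 : G))⁻¹ ∈ N := by
      rw [Subgroup.mem_normalizer_iff]
      intro u
      constructor
      · intro hu
        rwa [← Subgroup.mem_centralizer_iff.1 hzC u hu, mul_inv_cancel_right]
      · intro hu
        have := Subgroup.mem_centralizer_iff.1 (inv_mem hzC) _ hu
        have h2 : u = x * ((i.2 : G))⁻¹ * u * (x * ((i.2 : G))⁻¹)⁻¹ := by
          calc u = (x * ((i.2 : G))⁻¹)⁻¹ * ((x * ((i.2 : G))⁻¹) * u * (x * ((i.2 : G))⁻¹)⁻¹) *
                (x * ((i.2 : G))⁻¹) := by group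
            _ = _ := by rw [← this]; group
        rw [h2]; exact hu
    have htN : (i.2 : G) ∈ N := by
      have := N.mul_mem (inv_mem hzN) hxN
      simpa [mul_assoc] using this
    let C : Subgroup N := (Subgroup.centralizer (Q : Set G)).subgroupOf N
    have hCn : C.Normal := by
      refine ⟨fun z hz g => Subgroup.mem_subgroupOf.2 (Subgroup.mem_centralizer_iff.2 fun u hu => ?_)⟩
      have hu' : (g : G)⁻¹ * u * g ∈ Q := by
        simpa using (Subgroup.mem_normalizer_iff.1 (inv_mem g.2) u).1 hu
      have hz' := Subgroup.mem_centralizer_iff.1 (Subgroup.mem_subgroupOf.1 hz) _ hu'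
      simp only [Subgroup.coe_mul, Subgroup.coe_inv]
      calc u * ((g : G) * (z : G) * (g : G)⁻¹) = g * ((g : G)⁻¹ * u * g * z) * (g : G)⁻¹ := by group
        _ = _ := by rw [hz']; group
    have heq : QuotientGroup.mk' C ⟨x, hxN⟩ = QuotientGroup.mk' C ⟨i.2, htN⟩ := by
      rw [QuotientGroup.mk'_apply, QuotientGroup.mk'_apply, eq_comm, QuotientGroup.eq,
        Subgroup.mem_subgroupOf]
      have hcz := hCn.conj_mem ⟨x * ((i.2 : G))⁻¹, hzN⟩ (Subgroup.mem_subgroupOf.2 hzC) ⟨i.2, htN⟩⁻¹
      have hcz' := Subgroup.mem_subgroupOf.1 hcz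
      simpa [mul_assoc] using hcz'
    obtain ⟨n, hn⟩ := hpP i.2
    have ho1 : orderOf (QuotientGroup.mk' C ⟨x, hxN⟩) ∣ p ^ n := by
      rw [heq]
      refine (orderOf_map_dvd _ _).trans (orderOf_dvd_of_pow_eq_one (Subtype.ext ?_))
      simpa using congrArg Subtype.val hn
    have ho2 : orderOf (QuotientGroup.mk' C ⟨x, hxN⟩) ∣ orderOf x := by
      refine (orderOf_map_dvd _ _).trans ?_
      rw [← orderOf_injective N.subtype N.subtype_injective]
      rfl
    have hcop : (p ^ n).Coprime (orderOf x) :=
      Nat.Coprime.pow_left n ((Fact.out : p.Prime).coprime_iff_not_dvd.2 hxreg)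
    have h1 := Nat.eq_one_of_dvd_coprimes hcop ho1 ho2
    rw [orderOf_eq_one_iff, QuotientGroup.mk'_apply, QuotientGroup.eq_one_iff] at h1
    exact Subgroup.mem_subgroupOf.1 h1
  -- invariance of the coefficients
  have hgf : ∀ (u : Q) i, f (u • i) = f i := by
    intro u
    have hinj := hLI.fintypeLinearCombination_injective
    have h2 : (∑ i, f i • e (u • i)) = ∑ i, f i • e i := by
      calc (∑ i, f i • e (u • i))
          = single (u : G) (1 : k) * (∑ i, f i • e i) * single ((x⁻¹ * (u : G) * x)⁻¹) 1 := by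
            rw [Finset.mul_sum, Finset.sum_mul]
            refine Finset.sum_congr rfl fun i _ => ?_
            rw [mul_smul_comm, smul_mul_assoc, hsmul, e_act]
            rfl
        _ = _ := by
            rw [hf, ← mul_assoc, ← hcent, mul_assoc, mul_assoc, single_mul_single,
              single_mul_single]
            simp [mul_assoc]
    have h3 : (∑ i, f (u⁻¹ • i) • e i) = ∑ i, f i • e i := by
      rw [← h2]
      exact Fintype.sum_equiv (MulAction.toPerm u⁻¹) _ _ fun i => by
        simp [MulAction.toPerm_apply]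
    have h4 := hinj (a₁ := fun i => f (u⁻¹ • i)) (a₂ := f) h3
    intro i
    simpa using (congrFun h4 (u • i)).symm
  have hge : ∀ (u : Q) i, (e (u • i)).coeff (x * c₀) = (e i).coeff (x * c₀) := by
    intro u i
    rw [hsmul, e_act]
    simp only [τ, MonoidHom.coe_mk, OneHom.coe_mk, cms,
      csm, one_mul, mul_one]
    congr 1
    have hcomm := Subgroup.mem_centralizer_iff.1 hc₀ _ (hQx u u.2)
    calc (u : G)⁻¹ * (x * c₀ * ((x⁻¹ * (u : G) * x)⁻¹)⁻¹)
        = (u : G)⁻¹ * x * (c₀ * (x⁻¹ * (u : G) * x)) := by group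
      _ = x * c₀ := by rw [← hcomm]; group
  have hkey := congrArg (fun v => v.coeff (x * c₀)) hf
  simp only [MonoidAlgebra.coeff_sum, Finsupp.finsetSum_apply, MonoidAlgebra.coeff_smul_apply,
    smul_eq_mul] at hkey
  rw [sum_eq_zero_of_no_fixed (hpP.to_le hQP) (fun i => f i * (e i).coeff (x * c₀))
    (fun u i => by rw [hgf, hge]) hfix, hcent, csm] at hkey
  simpa using hkey.symm

end Cfsg.Agent.MinimalBlock
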