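import Cfsg.Agent.Lib.Blocks.Star.Ambient
import Cfsg.Agent.Lib.Blocks.Defect
import Cfsg.Agent.Lib.CharTheory.MinimalBlock.Perm

/-!
# Blocks with the least possible sum of squared degrees are nilpotent

The reduction of the block idempotent modulo the local ideal spans an ideal of dimension at most
`∑ χ(1)²`; `MinimalBlock.coeff_eq_zero` then shows that no element of `p'`-order of `N(Q)` acts
nontrivially on `Q` when `Q` carries a Brauer pair of the block.
-/

set_option linter.style.haveILetI false

namespace Cfsg.Agent.MinimalBlock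

open Cfsg.Agent.Blocks Cfsg.Agent.Blocks.Star Cfsg.Agent.BlockCharsA.BrauerPairs
open MonoidAlgebra
open scoped ComplexConjugate

universe u

variable {G : Type u} [Group G] [Finite G]

/-- Reductions of linearly independent lifts: the dimension does not go up modulo the maximal
ideal. -/
theorem finrank_range_le {O : Type*} [CommRing O] [IsLocalRing O] {K : Type*} [Field K]
    (ι : O →+* K) (hι : Function.Injective ι) (e : MonoidAlgebra O G) :
    Module.finrank (IsLocalRing.ResidueField O) (LinearMap.range (LinearMap.mulLeft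
      (IsLocalRing.ResidueField O) (mapRingHom G (IsLocalRing.residue O) e))) ≤
    Module.finrank K (LinearMap.range (LinearMap.mulLeft K (mapRingHom G ι e))) := by
  classical
  haveI := Fintype.ofFinite G
  let k := IsLocalRing.ResidueField O
  let π : O →+* k := IsLocalRing.residue O
  haveI : Module.Finite k (MonoidAlgebra k G) := Module.Finite.of_basis (MonoidAlgebra.basis G k)
  haveI : Module.Finite K (MonoidAlgebra K G) := Module.Finite.of_basis (MonoidAlgebra.basis G K)
  set W := LinearMap.range (LinearMap.mulLeft k (mapRingHom G π e)) with hW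
  set n := Module.finrank k W with hn
  let B := Module.finBasis k W
  have hB : LinearIndependent k (fun i => (B i : MonoidAlgebra k G)) :=
    B.linearIndependent.map' W.subtype W.ker_subtype
  obtain ⟨φ, hφ⟩ := LinearMap.exists_leftInverse_of_injective
    (Fintype.linearCombination k (fun i => (B i : MonoidAlgebra k G)))
    (LinearMap.ker_eq_bot.2 hB.fintypeLinearCombination_injective)
  have hsurj : ∀ z : MonoidAlgebra k G, ∃ w : MonoidAlgebra O G, mapRingHom G π w = z := by
    intro z
    choose s hs using fun g => IsLocalRing.residue_surjective (z.coeff g)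
    refine ⟨∑ g, single g (s g), MonoidAlgebra.ext (Finsupp.ext fun g => ?_)⟩
    rw [coeff_mapRingHom, MonoidAlgebra.coeff_sum, Finsupp.finsetSum_apply,
      Finset.sum_eq_single g (fun b _ hb => by simp [hb]) (by simp)]
    simp [π, hs]
  have hmem : ∀ i, ∃ w : MonoidAlgebra O G,
      mapRingHom G π (e * w) = (B i : MonoidAlgebra k G) := fun i => by
    obtain ⟨z, hz⟩ := (B i).2
    obtain ⟨w, rfl⟩ := hsurj z
    exact ⟨w, by rw [map_mul]; exact hz⟩
  choose w hw using hmem
  choose A hA using fun (j : Fin n) (g : G) =>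
    IsLocalRing.residue_surjective (R := O) (φ (single g (1 : k)) j)
  let T : Matrix (Fin n) (Fin n) O := Matrix.of fun j i => ∑ g, A j g * (e * w i).coeff g
  have hT : T.map π = 1 := by
    ext j i
    have h1 : φ (B i : MonoidAlgebra k G) = Pi.single i 1 := by
      have := LinearMap.congr_fun hφ (Pi.single i 1)
      rwa [LinearMap.comp_apply, Fintype.linearCombination_apply_single, one_smul] at this
    have h2 : (B i : MonoidAlgebra k G) = ∑ g, (π ((e * w i).coeff g)) • single g (1 : k) := by
      refine MonoidAlgebra.ext (Finsupp.ext fun g => ?_)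
      rw [← hw i, coeff_mapRingHom, MonoidAlgebra.coeff_sum, Finsupp.finsetSum_apply,
        Finset.sum_eq_single g (fun b _ hb => by simp [hb]) (by simp)]
      simp
    have h3 := congrFun h1 j
    rw [h2, map_sum, Finset.sum_apply] at h3
    simp only [map_smul, Pi.smul_apply, smul_eq_mul] at h3
    simp only [Matrix.map_apply, T, Matrix.of_apply, map_sum, map_mul, hA, π] at h3 ⊢
    rw [Matrix.one_apply, ← Finset.sum_congr rfl (fun g _ => mul_comm _ _), h3]
    simp [Pi.single_apply]
  have hdet : T.det ≠ 0 := fun h => by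
    have h1 := congrArg Matrix.det hT
    rw [← RingHom.mapMatrix_apply, ← RingHom.map_det, h, map_zero, Matrix.det_one] at h1
    exact zero_ne_one h1
  have hLI : LinearIndependent K (fun i =>
      (⟨mapRingHom G ι (e * w i), ⟨mapRingHom G ι (w i), by simp⟩⟩ :
        LinearMap.range (LinearMap.mulLeft K (mapRingHom G ι e)))) := by
    rw [Fintype.linearIndependent_iff]
    intro c hc
    have hc' := congrArg Subtype.val hc
    simp only [Submodule.coe_sum, Submodule.coe_smul, Submodule.coe_zero] at hc'
    have hmv : (T.map ι).mulVec c = 0 := by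
      funext j
      simp only [Matrix.mulVec, dotProduct, Matrix.map_apply, T, Matrix.of_apply, map_sum, map_mul,
        Finset.sum_mul, Pi.zero_apply]
      rw [Finset.sum_comm]
      refine Finset.sum_eq_zero fun g _ => ?_
      have h := congrArg (fun z => z.coeff g) hc'
      simp only [MonoidAlgebra.coeff_sum, Finsupp.finsetSum_apply, MonoidAlgebra.coeff_smul_apply,
        coeff_mapRingHom, smul_eq_mul, MonoidAlgebra.coeff_zero, Finsupp.zero_apply] at h
      rw [show ∑ i, ι (A j g) * ι ((e * w i).coeff g) * c i =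
        ι (A j g) * ∑ i, c i * ι ((e * w i).coeff g) by
          rw [Finset.mul_sum]; exact Finset.sum_congr rfl fun i _ => by ring, h, mul_zero]
    exact congrFun (Matrix.eq_zero_of_mulVec_eq_zero (by
      rw [← RingHom.mapMatrix_apply, ← RingHom.map_det]
      exact (map_ne_zero_iff ι hι).2 hdet) hmv)
  simpa using hLI.fintype_card_le_finrank

/-- The range of an idempotent of the complex group algebra. -/
theorem finrank_range_idem {e : MonoidAlgebra ℂ G} (he : e * e = e) :
    (Module.finrank ℂ (LinearMap.range (LinearMap.mulLeft ℂ e)) : ℂ) =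
      Nat.card G * e.coeff 1 := by
  classical
  haveI := Fintype.ofFinite G
  haveI : Module.Finite ℂ (MonoidAlgebra ℂ G) := Module.Finite.of_basis (MonoidAlgebra.basis G ℂ)
  have hid : IsIdempotentElem (LinearMap.mulLeft ℂ e) := by
    refine LinearMap.ext fun x => ?_
    rw [Module.End.mul_apply, LinearMap.mulLeft_apply, LinearMap.mulLeft_apply, ← mul_assoc, he]
  rw [← ((LinearMap.isProj_range_iff_isIdempotentElem _).2 hid).trace, LinearMap.trace_eq_matrix_trace ℂ (MonoidAlgebra.basis G ℂ),
    Matrix.trace, Nat.card_eq_fintype_card]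
  rw [Finset.sum_congr rfl (fun g _ => show Matrix.diag _ g = e.coeff 1 by
    rw [Matrix.diag_apply, LinearMap.toMatrix_apply, MonoidAlgebra.basis_apply,
      LinearMap.mulLeft_apply]
    change (e * single g (1 : ℂ)).coeff g = _
    rw [coeff_mul_single', mul_inv_cancel, mul_one]), Finset.sum_const, Finset.card_univ,
    nsmul_eq_mul]

/-- A block with `∑ χ(1)² ≤ p ^ (2a - d)` is nilpotent. -/
theorem isNilpotentBlock_of_sum_le {p : ℕ} [Fact p.Prime] {M : Ideal Cfsg.AlgInt}
    (hM : Cfsg.IsPModular p M) {B : Set (Cfsg.IrrCharacter G)} (hB : Cfsg.IsPBlock M B)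
    {D : Subgroup G} (hD : Cfsg.IsDefectGroup p M B D) {a d : ℕ}
    (ha : (Nat.card G).factorization p = a) (hd : Nat.card D = p ^ d)
    (hmin : ∑ᶠ χ ∈ B, Cfsg.charDegree (χ : G → ℂ) ^ 2 ≤ p ^ (2 * a - d)) :
    Cfsg.IsNilpotentBlock p M B := by
  classical
  haveI := Fintype.ofFinite G
  haveI := Fintype.ofFinite (Cfsg.IrrCharacter G)
  refine ⟨hB, fun Q f hpair x hxN _ hxreg => ?_⟩
  by_contra hxC
  obtain ⟨⟨hQ, hf⟩, -, hω⟩ := hpair
  obtain ⟨ξ, hξ⟩ := block_nonempty hM hf
  obtain ⟨P, hQP⟩ := hQ.exists_le_sylow
  -- the idempotent over the local ring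
  let k := IsLocalRing.ResidueField (Loc hM)
  haveI : CharP k p := (CharP.charP_iff_prime_eq_zero (Fact.out : p.Prime)).2 (residue_natCast_p hM)
  let eL : MonoidAlgebra (Loc hM) G :=
    ∑ g, single g (⟨Cfsg.blockCoeff B g, blockCoeff_ring hM hB g⟩ : Loc hM)
  have heL : ∀ g, eL.coeff g = ⟨Cfsg.blockCoeff B g, blockCoeff_ring hM hB g⟩ := fun g => by
    simp only [eL, MonoidAlgebra.coeff_sum, Finsupp.finsetSum_apply]
    rw [Finset.sum_eq_single g (fun b _ hb => by simp [hb]) (by simp)]
    simp
  have hι : mapRingHom G (Loc hM).subtype eL = blockIdem B :=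
    el_ext fun g => by simp [heL]
  have hinj : Function.Injective (mapRingHom G (Loc hM).subtype) := fun y z h =>
    MonoidAlgebra.ext (Finsupp.ext fun g => Subtype.ext (by
      simpa using congrArg (fun v => v.coeff g) h))
  have hLidem : eL * eL = eL := hinj (by rw [map_mul, hι, blockIdem_mul_self])
  have hLcent : ∀ g, eL * single g 1 = single g 1 * eL := fun g => hinj (by
    rw [map_mul, map_mul, hι]
    exact central_commute (central_blockIdem B) _)
  set b : MonoidAlgebra k G := mapRingHom G (IsLocalRing.residue (Loc hM)) eL with hb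
  have hsingle : ∀ g, mapRingHom G (IsLocalRing.residue (Loc hM)) (single g 1) = single g 1 :=
    fun g => by simp
  have hbcoeff : ∀ g, b.coeff g = 0 ↔ Cfsg.MemLocalIdeal M (Cfsg.blockCoeff B g) := fun g => by
    rw [show b.coeff g = IsLocalRing.residue (Loc hM)
      ⟨Cfsg.blockCoeff B g, blockCoeff_ring hM hB g⟩ by simp [b, heL]]
    exact (IsLocalRing.residue_eq_zero_iff _).trans (mem_maximal_iff hM _)
  have hidem : b * b = b := by rw [hb, ← map_mul, hLidem]
  have hcent : ∀ g, b * single g 1 = single g 1 * b := fun g => by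
    rw [hb, ← hsingle, ← map_mul, ← map_mul, hLcent]
  have hb0 : b ≠ 0 := by
    obtain ⟨g, hg, -⟩ := isDefectGroup_iff.1 hD
    exact fun h => hg.2.1 ((hbcoeff g).1 (by rw [h]; simp))
  have hdef : ∀ c, b.coeff c ≠ 0 →
      Nat.card ↥((P : Subgroup G) ⊓ Subgroup.centralizer {c}) ≤ p ^ d := fun c hc => by
    obtain ⟨y, hy⟩ := le_defect_of_coeff hM hB hD (fun h => hc ((hbcoeff c).2 h))
      (P.2.to_le inf_le_left) (Subgroup.mem_centralizer_iff.2 fun t ht =>
        Subgroup.mem_centralizer_singleton_iff.1 (Subgroup.mem_inf.1 ht).2)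
    refine (Subgroup.card_le_of_le hy).trans_eq ?_
    rw [Subgroup.card_map_of_injective (MulAut.conj y).injective, hd]
  have hdim : Module.finrank k (LinearMap.range (LinearMap.mulLeft k b)) ≤ p ^ (2 * a - d) := by
    refine le_trans ?_ hmin
    refine (finrank_range_le (Loc hM).subtype Subtype.val_injective eL).trans_eq ?_
    rw [hι]
    have h1 := finrank_range_idem (blockIdem_mul_self B)
    rw [coeff_blockIdem, Cfsg.blockCoeff, ← mul_assoc,
      mul_inv_cancel₀ (Nat.cast_ne_zero.2 Nat.card_pos.ne'), one_mul] at h1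
    refine Nat.cast_injective (R := ℂ) (h1.trans ?_)
    rw [finsum_mem_eq_toFinset_sum, finsum_mem_eq_toFinset_sum, Nat.cast_sum]
    refine Finset.sum_congr rfl fun χ _ => ?_
    push_cast
    rw [← charDegree_cast χ, Complex.conj_natCast, sq]
  have hzero : ∀ c ∈ Subgroup.centralizer (Q : Set G),
      Cfsg.MemLocalIdeal M (Cfsg.blockCoeff B c) := fun c hc =>
    (hbcoeff c).1 (coeff_eq_zero hidem hcent hb0
      (P := (P : Subgroup G)) (a := a) (d := d) (by rw [P.card_eq_multiplicity, ha])
      hdef hdim hQP hxN hxreg hxC hc)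
  have hcz : IsCentralEl (br Q (blockIdem B)) :=
    central_br fun u _ g => central_blockIdem B g u
  have h0 : Cfsg.MemLocalIdeal M (omega (ξ : _ → ℂ) (br Q (blockIdem B))) :=
    omega_ideal hM ξ hcz fun g => by
      simpa [br] using hzero g g.2
  have h1 := hω ξ hξ
  rw [brauerOmega_block] at h1
  exact not_ideal_one hM (by simpa using ideal_sub hM h0 h1)

end Cfsg.Agent.MinimalBlock
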